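import Groth.Prelude.Def_EGA4Misc
import Mathlib.AlgebraicGeometry.Morphisms.UniversallyInjective
import Mathlib.RingTheory.TensorProduct.Basic
import Mathlib.FieldTheory.IsAlgClosed.AlgebraicClosure
import Mathlib.FieldTheory.PurelyInseparable.Basic
import Mathlib.RingTheory.TensorProduct.Nontrivial

/-!
# Radicial at a point, through field valued points
-/

set_option autoImplicit false
set_option backward.isDefEq.respectTransparency false

universe u

open CategoryTheory AlgebraicGeometry TensorProduct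

namespace Groth.Agent.RadPt5

variable {X Y : Scheme.{u}}

theorem exists_hom {K : Type u} [Field K] (g : Spec (CommRingCat.of K) ⟶ X) (x : X)
    (hx : g (IsLocalRing.closedPoint K) = x) :
    ∃ φ : X.residueField x ⟶ CommRingCat.of K, g = Spec.map φ ≫ X.fromSpecResidueField x := by
  subst hx
  exact ⟨_, ((X.SpecToEquivOfField K).symm_apply_apply g).symm⟩

theorem point_eq {K : Type u} [Field K] {x : X} (φ : X.residueField x ⟶ CommRingCat.of K) :
    (Spec.map φ ≫ X.fromSpecResidueField x) (IsLocalRing.closedPoint K) = x := by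
  rw [Scheme.Hom.comp_apply]
  exact X.fromSpecResidueField_apply x _

theorem cancel {K : CommRingCat.{u}} {x : X} (a b : X.residueField x ⟶ K)
    (h : Spec.map a ≫ X.fromSpecResidueField x = Spec.map b ≫ X.fromSpecResidueField x) : a = b :=
  Spec.map_injective ((cancel_mono _).1 h)

theorem exists_common_field {k K L : Type u} [Field k] [Field K] [Field L] (φ : k →+* K) (ψ : k →+* L) :
    ∃ (M : Type u) (_ : Field M) (ι : K →+* M) (κ : L →+* M), κ.comp ψ = ι.comp φ := by
  algebraize [φ, ψ]
  haveI : Nontrivial (K ⊗[k] L) :=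
    Algebra.TensorProduct.nontrivial_of_algebraMap_injective_of_flat_left k K L ψ.injective
  obtain ⟨m, hm⟩ := Ideal.exists_maximal (K ⊗[k] L)
  exact ⟨_, Ideal.Quotient.field m, (Ideal.Quotient.mk m).comp Algebra.TensorProduct.includeLeftRingHom,
    (Ideal.Quotient.mk m).comp Algebra.TensorProduct.includeRight.toRingHom,
    RingHom.ext fun c => congrArg (Ideal.Quotient.mk m) (Algebra.TensorProduct.tmul_one_eq_one_tmul c).symm⟩

/-- A point over the image of a field valued point, after extending the field. -/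
theorem exists_lift (f : X ⟶ Y) {K : Type u} [Field K] (a : Spec (CommRingCat.of K) ⟶ Y) (x : X)
    (hx : f x = a (IsLocalRing.closedPoint K)) :
    ∃ (K' : Type u) (_ : Field K') (ι : K →+* K') (d : Spec (CommRingCat.of K') ⟶ X),
      d (IsLocalRing.closedPoint K') = x ∧ d ≫ f = Spec.map (CommRingCat.ofHom ι) ≫ a := by
  obtain ⟨φ, hφ⟩ := exists_hom a (f x) hx.symm
  obtain ⟨M, _, ι, κ, hκ⟩ := exists_common_field φ.hom (f.residueFieldMap x).hom
  refine ⟨M, inferInstance, ι, Spec.map (CommRingCat.ofHom κ) ≫ X.fromSpecResidueField x,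
    point_eq (CommRingCat.ofHom κ), ?_⟩
  rw [hφ, Category.assoc, ← Scheme.Hom.SpecMap_residueFieldMap_fromSpecResidueField, ← Category.assoc,
    ← Category.assoc, ← Spec.map_comp, ← Spec.map_comp]
  congr 2
  exact CommRingCat.hom_ext hκ

theorem cancel_field {K K' : Type u} [Field K] [Field K'] (ι : K →+* K') (a b : Spec (CommRingCat.of K) ⟶ X)
    (h : Spec.map (CommRingCat.ofHom ι) ≫ a = Spec.map (CommRingCat.ofHom ι) ≫ b) : a = b := by
  have hpt : (Spec.map (CommRingCat.ofHom ι)) (IsLocalRing.closedPoint K') = IsLocalRing.closedPoint K :=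
    Subsingleton.elim (α := PrimeSpectrum K) _ _
  have hx : b (IsLocalRing.closedPoint K) = a (IsLocalRing.closedPoint K) := by
    rw [← hpt, ← Scheme.Hom.comp_apply, ← Scheme.Hom.comp_apply, h]
  generalize hxa : a (IsLocalRing.closedPoint K) = x at hx
  obtain ⟨φ, rfl⟩ := exists_hom a x hxa
  obtain ⟨ψ, rfl⟩ := exists_hom b x hx
  rw [← Category.assoc, ← Category.assoc, ← Spec.map_comp, ← Spec.map_comp] at h
  have h' := cancel _ _ h
  congr 2
  exact CommRingCat.hom_ext (RingHom.ext fun c => ι.injective (congrArg (fun k => k.hom c) h'))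

/-- Field valued points over `y` are determined by their images. -/
def PointsInj (f : X ⟶ Y) (y : Y) : Prop :=
  ∀ (K : Type u) [Field K] (α β : Spec (CommRingCat.of K) ⟶ X),
    α ≫ f = β ≫ f → f (α (IsLocalRing.closedPoint K)) = y → α = β

theorem isRadicialAt_iff (f : X ⟶ Y) (y : Y) : RadPt.IsRadicialAt f y ↔ PointsInj f y := by
  constructor
  · rintro ⟨huniq, hins⟩ K _ α β h hy
    have hy' : f (β (IsLocalRing.closedPoint K)) = y := by
      rw [← Scheme.Hom.comp_apply, ← h, Scheme.Hom.comp_apply]; exact hy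
    generalize hx : α (IsLocalRing.closedPoint K) = x at hy
    obtain ⟨φ, rfl⟩ := exists_hom α x hx
    obtain ⟨ψ, rfl⟩ := exists_hom β x (huniq _ _ hy' hy)
    rw [Category.assoc, Category.assoc, ← Scheme.Hom.SpecMap_residueFieldMap_fromSpecResidueField,
      ← Category.assoc, ← Category.assoc, ← Spec.map_comp, ← Spec.map_comp] at h
    have h' := cancel _ _ h
    have hins := hins _ hy
    algebraize [(f.residueFieldMap x).hom]
    congr 2
    exact CommRingCat.hom_ext (IsPurelyInseparable.injective_comp_algebraMap _ _ _ (congrArg CommRingCat.Hom.hom h'))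
  · intro h
    refine ⟨fun x x' hx hx' => ?_, fun x hx => ?_⟩
    · obtain ⟨K', _, ι, d, hd, hdf⟩ := exists_lift f
        (X.fromSpecResidueField x' ≫ f) x
        (hx.trans (hx'.symm.trans ((congrArg f (X.fromSpecResidueField_apply x' _).symm).trans
          (Scheme.Hom.comp_apply _ f _).symm)))
      have := h K' d (Spec.map (CommRingCat.ofHom ι) ≫ X.fromSpecResidueField x')
        (by rw [hdf, Category.assoc]) (by rw [hd, hx])
      rw [← hd, this]
      exact point_eq (CommRingCat.ofHom ι)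
    · algebraize [(f.residueFieldMap x).hom]
      rw [RingHom.IsPurelyInseparable, isPurelyInseparable_iff_subsingleton_emb, subsingleton_iff]
      intro σ₁ σ₂
      refine AlgHom.coe_ringHom_injective ?_
      have := h _ (Spec.map (CommRingCat.ofHom σ₁.toRingHom) ≫ X.fromSpecResidueField x)
        (Spec.map (CommRingCat.ofHom σ₂.toRingHom) ≫ X.fromSpecResidueField x)
        (by
          rw [Category.assoc, Category.assoc, ← Scheme.Hom.SpecMap_residueFieldMap_fromSpecResidueField,
            ← Category.assoc, ← Category.assoc, ← Spec.map_comp, ← Spec.map_comp]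
          congr 2
          exact CommRingCat.hom_ext (RingHom.ext fun a => (σ₁.commutes a).trans (σ₂.commutes a).symm))
        (by rw [point_eq, hx])
      exact congrArg CommRingCat.Hom.hom (cancel _ _ this)

theorem isRadicialAt_comp {Z : Scheme.{u}} (f : X ⟶ Y) (g : Y ⟶ Z) (y : Y)
    (hf : RadPt.IsRadicialAt f y) (hg : RadPt.IsRadicialAt g (g y)) : RadPt.IsRadicialAt (f ≫ g) (g y) := by
  rw [isRadicialAt_iff]
  intro K _ α β h hy
  rw [← Category.assoc, ← Category.assoc] at h
  have hy' : g ((α ≫ f) (IsLocalRing.closedPoint K)) = g y := by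
    rw [Scheme.Hom.comp_apply]; exact (Scheme.Hom.comp_apply f g _).symm.trans hy
  have h1 := (isRadicialAt_iff g (g y)).1 hg K _ _ h hy'
  refine (isRadicialAt_iff f y).1 hf K α β h1 (hg.1 _ _ ?_ rfl)
  exact (Scheme.Hom.comp_apply f g _).symm.trans hy

theorem isRadicialAt_of_comp {Z : Scheme.{u}} (f : X ⟶ Y) (g : Y ⟶ Z) (y : Y) (hs : Surjective f)
    (h : RadPt.IsRadicialAt (f ≫ g) (g y)) : RadPt.IsRadicialAt f y ∧ RadPt.IsRadicialAt g (g y) := by
  rw [isRadicialAt_iff] at h ⊢
  refine ⟨fun K _ α β hab hy => h K α β (by rw [← Category.assoc, hab, Category.assoc])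
    (by rw [Scheme.Hom.comp_apply, hy]), ?_⟩
  rw [isRadicialAt_iff]
  intro K _ γ δ hgd hy
  obtain ⟨x₁, hx₁⟩ := hs.surj (γ (IsLocalRing.closedPoint K))
  obtain ⟨K₁, _, ι₁, d₁, hd₁, hd₁f⟩ := exists_lift f γ x₁ hx₁
  obtain ⟨x₂, hx₂⟩ := hs.surj ((Spec.map (CommRingCat.ofHom ι₁) ≫ δ) (IsLocalRing.closedPoint K₁))
  obtain ⟨K₂, _, ι₂, d₂, hd₂, hd₂f⟩ := exists_lift f _ x₂ hx₂
  have := h K₂ (Spec.map (CommRingCat.ofHom ι₂) ≫ d₁) d₂
    (by
      rw [← Category.assoc d₂, hd₂f, Category.assoc, ← Category.assoc d₁, hd₁f]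
      simp only [Category.assoc, hgd])
    (by
      rw [Scheme.Hom.comp_apply, ← Scheme.Hom.comp_apply (Spec.map _ ≫ d₁) f, Category.assoc, hd₁f,
        Scheme.Hom.comp_apply, Scheme.Hom.comp_apply,
        show (Spec.map (CommRingCat.ofHom ι₁)) ((Spec.map (CommRingCat.ofHom ι₂)) (IsLocalRing.closedPoint K₂)) =
          IsLocalRing.closedPoint K from Subsingleton.elim (α := PrimeSpectrum K) _ _]
      exact hy)
  refine cancel_field ι₁ _ _ (cancel_field ι₂ _ _ ?_)
  rw [← hd₂f, ← this, Category.assoc, hd₁f]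

theorem isRadicialAt_iff_of_isPullback {X' Y' : Scheme.{u}} {f : X ⟶ Y} {h : Y' ⟶ Y} {f' : X' ⟶ Y'} {h' : X' ⟶ X}
    (sq : IsPullback h' f' f h) (y' : Y') : RadPt.IsRadicialAt f (h y') ↔ RadPt.IsRadicialAt f' y' := by
  rw [isRadicialAt_iff, isRadicialAt_iff]
  constructor
  · intro hf K _ α β hab hy
    refine sq.hom_ext (hf K _ _ ?_ ?_) hab
    · rw [Category.assoc, Category.assoc, sq.w, ← Category.assoc, hab, Category.assoc]
    · rw [← Scheme.Hom.comp_apply (α ≫ h') f, Category.assoc, sq.w, Scheme.Hom.comp_apply, Scheme.Hom.comp_apply, hy]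
  · intro hf K _ α β hab hy
    obtain ⟨K', _, ι, d, hd, hdh⟩ := exists_lift h (α ≫ f) y' (by rw [Scheme.Hom.comp_apply, hy])
    let α' := sq.lift (Spec.map (CommRingCat.ofHom ι) ≫ α) d (by rw [Category.assoc, hdh])
    let β' := sq.lift (Spec.map (CommRingCat.ofHom ι) ≫ β) d (by rw [Category.assoc, ← hab, hdh])
    have : α' = β' := hf K' α' β' (by rw [sq.lift_snd, sq.lift_snd])
      (by rw [← Scheme.Hom.comp_apply, sq.lift_snd, hd])
    refine cancel_field ι _ _ ?_
    rw [← sq.lift_fst (Spec.map (CommRingCat.ofHom ι) ≫ α) d (by rw [Category.assoc, hdh]),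
      ← sq.lift_fst (Spec.map (CommRingCat.ofHom ι) ≫ β) d (by rw [Category.assoc, ← hab, hdh])]
    exact congrArg (· ≫ h') this

end Groth.Agent.RadPt5
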